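import Groth.Prelude.Def_Dual3
import Groth.Prelude.Def_Wider
import Groth.Agent.ClosedPush.EssImage
import Groth.Agent.QC.SubSheaf
import Mathlib

/-!
Sections of `Hom(O_Z, F)` for a closed immersion.
-/

set_option autoImplicit false
set_option backward.isDefEq.respectTransparency false
set_option backward.isDefEq.respectTransparency.types false
set_option linter.style.haveILetI false

universe u

open CategoryTheory CategoryTheory.Limits AlgebraicGeometry Opposite TopologicalSpace
open Groth.Agent.QC (res resO res_res res_smul resO_resO section_eq_of_locally app_res)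

noncomputable section

namespace Groth.Agent.HomOSect

variable {Z X : Scheme.{u}} (i : Z ⟶ X)

/-- The structure map as a map of sheaves. -/
def cc : X.sheaf ⟶ ((Opens.map i.base).sheafPushforwardContinuous CommRingCat.{u} (Opens.grothendieckTopology X)
    (Opens.grothendieckTopology Z)).obj Z.sheaf := ⟨i.c⟩

variable [IsClosedImmersion i]

theorem isLocallySurjective_cc : Sheaf.IsLocallySurjective (cc i) := by
  constructor
  intro U s x hx
  obtain ⟨V, hV, hxV, hVU⟩ := exists_isAffineOpen_mem_and_subset (show x ∈ U from hx)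
  obtain ⟨t', ht'⟩ : ∃ t', (i.app V).hom t' = (Z.presheaf.map ((Opens.map i.base).map (homOfLE hVU)).op).hom s :=
    Scheme.Hom.app_surjective i V hV _
  exact ⟨V, homOfLE hVU, ⟨t', ht'⟩, hxV⟩

/-- The sections killed by the ideal. -/
def tors (F : X.Modules) : Groth.Agent.QC.Sub F where
  obj O :=
    { carrier := {s | ∀ (W : X.Opens) (h : W ≤ O) (a : Γ(X, W)), (i.app W).hom a = 0 → a • res F h s = 0}
      zero_mem' := fun W h a _ => by rw [map_zero, smul_zero]
      add_mem' := fun hs ht W h a ha => by rw [map_add, smul_add, hs W h a ha, ht W h a ha, add_zero]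
      smul_mem' := fun r s hs W h a ha => by rw [res_smul, smul_comm, hs W h a ha, smul_zero] }
  res_mem h s hs W h' a ha := by rw [res_res]; exact hs W (h'.trans h) a ha
  local' {O} s hs W h a ha := section_eq_of_locally fun x hx => by
    obtain ⟨W', h', hxW', hW'⟩ := hs x (h hx)
    refine ⟨W ⊓ W', inf_le_left, ⟨hx, hxW'⟩, ?_⟩
    rw [res_smul, res_res, map_zero, ← res_res F (inf_le_right : W ⊓ W' ≤ W') h' s]
    refine hW' _ _ _ ?_
    show (i.app (W ⊓ W')).hom ((X.presheaf.map _).hom a) = 0
    rw [← CommRingCat.comp_apply, i.naturality, CommRingCat.comp_apply, ha, map_zero]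

theorem mem_tors_affine (F : X.Modules) (U : X.affineOpens) (s : Γ(F, U.1)) :
    s ∈ (tors i F).obj U.1 ↔ ∀ a ∈ i.ker.ideal U, a • s = 0 := by
  constructor
  · intro h a ha
    have := h U.1 le_rfl a (by rwa [Scheme.Hom.ker_apply, RingHom.mem_ker] at ha)
    rwa [Groth.Agent.QC.res_self] at this
  · intro h W hWU a ha
    refine section_eq_of_locally fun x hx => ?_
    obtain ⟨f, hfW, hxf⟩ := U.2.exists_basicOpen_le ⟨x, hx⟩ (hWU hx)
    refine ⟨X.basicOpen f, hfW, hxf, ?_⟩
    rw [res_smul, res_res, map_zero]
    have hmem : resO X hfW a ∈ i.ker.ideal (X.affineBasicOpen f) := by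
      rw [Scheme.Hom.ker_apply, RingHom.mem_ker]
      show (i.app (X.basicOpen f)).hom ((X.presheaf.map _).hom a) = 0
      rw [← CommRingCat.comp_apply, i.naturality, CommRingCat.comp_apply, ha, map_zero]
    rw [← i.ker.map_ideal_basicOpen U f] at hmem
    let A : Ideal Γ(X, X.basicOpen f) :=
      LinearMap.ker (LinearMap.toSpanSingleton Γ(X, X.basicOpen f) Γ(F, X.basicOpen f) (res F (X.basicOpen_le f) s))
    refine (Ideal.map_le_iff_le_comap.2 fun b hb => ?_ :
      (i.ker.ideal U).map (X.presheaf.map (homOfLE (X.basicOpen_le f)).op).hom ≤ A) hmem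
    show resO X (X.basicOpen_le f) b • res F (X.basicOpen_le f) s = 0
    rw [← res_smul, h b hb, map_zero]

variable [Dual3.HasHomO i] (F : X.Modules)

/-- The counit is injective with image the killed sections. -/
theorem counit_spec (O : X.Opens) :
    Function.Injective (((Dual3.homOAdj i).counit.app F).app O) ∧
      Set.range (((Dual3.homOAdj i).counit.app F).app O) = ((tors i F).obj O : Set Γ(F, O)) := by
  let adj := Dual3.homOAdj i
  let c := adj.counit.app F
  let S := tors i F
  have hclosed : Topology.IsClosedEmbedding i.base := i.isClosedEmbedding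
  haveI : (Scheme.Modules.pushforward i).Full :=
    ClosedPush.full i.base (cc i) hclosed (isLocallySurjective_cc i)
  obtain ⟨H, ⟨e⟩⟩ : (Scheme.Modules.pushforward i).essImage S.toModules :=
    ClosedPush.mem_essImage i.base (cc i) (G := S.toModules) (fun U a ha s => by
      refine S.ι_app_injective U ?_
      refine (Scheme.Modules.Hom.app_smul S.ι a s).trans (Eq.trans ?_ (map_zero (S.ι.app U).hom).symm)
      have hs := (S.range_ι_app U _).1 ⟨s, rfl⟩
      have := hs U le_rfl a ha
      rwa [Groth.Agent.QC.res_self] at this) hclosed (isLocallySurjective_cc i)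
  let t : (Scheme.Modules.pushforward i).obj H ⟶ F := e.hom ≫ S.ι
  let h : H ⟶ (Dual3.homO i).obj F := adj.homEquiv _ _ t
  have hh : (Scheme.Modules.pushforward i).map h ≫ c = t :=
    (adj.homEquiv_counit _ _ h).symm.trans ((adj.homEquiv _ _).symm_apply_apply t)
  obtain ⟨φ, hφ⟩ := Groth.Agent.QC.exists_lift_of_range t c fun W y => by
    obtain ⟨z, hz⟩ : c.app W y ∈ Set.range (S.ι.app W) := by
      refine (S.range_ι_app W _).2 fun W' h' a ha => ?_
      rw [show res F h' (c.app W y) = c.app W' (res ((Scheme.Modules.pushforward i).obj ((Dual3.homO i).obj F)) h' y) from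
        (app_res c h' y), ← Scheme.Modules.Hom.app_smul]
      have hz0 : a • res ((Scheme.Modules.pushforward i).obj ((Dual3.homO i).obj F)) h' y = 0 := by
        show (i.app W').hom a • (_ : Γ((Dual3.homO i).obj F, i ⁻¹ᵁ W')) = 0
        rw [ha, zero_smul]
      rw [hz0, map_zero]
    obtain ⟨w, hw⟩ := (ConcreteCategory.bijective_of_isIso (e.hom.app W)).2 z
    exact ⟨w, (congrArg (S.ι.app W) hw).trans hz⟩
  obtain ⟨ψ, hψ⟩ := (Scheme.Modules.pushforward i).map_surjective φ
  have h1 : ψ ≫ h = 𝟙 _ := by
    refine (adj.homEquiv _ _).symm.injective ?_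
    rw [adj.homEquiv_counit, adj.homEquiv_counit, Functor.map_comp, Category.assoc, hh, hψ, hφ,
      CategoryTheory.Functor.map_id, Category.id_comp]
  have h2 : (Scheme.Modules.pushforward i).map (h ≫ ψ) = 𝟙 _ := by
    rw [← cancel_mono t, Functor.map_comp, Category.assoc, hψ, hφ, hh, Category.id_comp]
  haveI : IsIso ((Scheme.Modules.pushforward i).map ψ) :=
    ⟨(Scheme.Modules.pushforward i).map h, by rw [← Functor.map_comp, h1, CategoryTheory.Functor.map_id],
      by rw [← Functor.map_comp, h2]⟩
  haveI : IsIso φ := hψ ▸ inferInstance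
  haveI : Mono c := by rw [← hφ]; infer_instance
  refine ⟨Groth.Agent.QC.app_injective_of_mono c O, Set.ext fun s => ?_⟩
  show s ∈ Set.range (c.app O) ↔ s ∈ S.obj O
  rw [← S.range_ι_app O s]
  constructor
  · rintro ⟨y, rfl⟩
    exact ⟨e.hom.app O (φ.app O y), congrArg (fun q : _ ⟶ F => q.app O y) hφ⟩
  · rintro ⟨z, rfl⟩
    obtain ⟨w, hw⟩ := (ConcreteCategory.bijective_of_isIso (e.hom.app O)).2 z
    exact ⟨((Scheme.Modules.pushforward i).map h).app O w,
      (congrArg (fun q : _ ⟶ F => q.app O w) hh).trans (congrArg (S.ι.app O) hw)⟩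

end Groth.Agent.HomOSect
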